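import Mathlib

/-!
# The norm of a finite product of algebras
-/

universe u v

namespace Groth.Agent.MiscAlg16

variable {k : Type u} [Field k]

theorem norm_prod' {S T : Type v} [CommRing S] [CommRing T] [Algebra k S] [Algebra k T]
    [Module.Finite k S] [Module.Finite k T] (x : S × T) :
    Algebra.norm k x = Algebra.norm k x.1 * Algebra.norm k x.2 := by
  rw [Algebra.norm_apply, Algebra.norm_apply, Algebra.norm_apply, ← LinearMap.det_prodMap]
  exact congrArg LinearMap.det (LinearMap.ext fun y => rfl)

/-- The norm of a product is the product of the norms. -/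
theorem norm_pi {ι : Type v} [Fintype ι] (B : ι → Type v) [∀ i, CommRing (B i)] [∀ i, Algebra k (B i)]
    [∀ i, Module.Finite k (B i)] (x : ∀ i, B i) :
    Algebra.norm k x = ∏ i, Algebra.norm k (x i) := by
  revert B
  refine Fintype.induction_empty_option
    (P := fun α _ => ∀ (B : α → Type v) [∀ i, CommRing (B i)] [∀ i, Algebra k (B i)]
      [∀ i, Module.Finite k (B i)] (x : ∀ i, B i), Algebra.norm k x = ∏ i, Algebra.norm k (x i))
    (fun α β _ e h B _ _ _ x => ?_) (fun B _ _ _ x => ?_) (fun α _ h B _ _ _ x => ?_) ι
  · letI : Fintype α := Fintype.ofEquiv β e.symm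
    rw [← Algebra.norm_eq_of_algEquiv (AlgEquiv.piCongrLeft k B e).symm x, h, ← e.prod_comp]
    rfl
  · haveI : Subsingleton (∀ i, B i) := inferInstance
    rw [Fintype.prod_empty, Subsingleton.elim x 1, map_one]
  · let e : (∀ o, B o) ≃ₐ[k] B none × ∀ a, B (some a) :=
      { RingEquiv.piOptionEquivProd with commutes' := fun _ => rfl }
    rw [← Algebra.norm_eq_of_algEquiv e x, norm_prod', h, Fintype.prod_option]
    rfl

/-- The norm of an element which is a scalar plus a nilpotent. -/
theorem norm_of_isNilpotent_sub {S : Type v} [CommRing S] [Algebra k S] [Module.Finite k S] (x : S) (c : k)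
    (h : IsNilpotent (x - algebraMap k S c)) : Algebra.norm k x = c ^ Module.finrank k S := by
  have hn : IsNilpotent (Algebra.lmul k S (algebraMap k S c - x)) :=
    (by rw [← neg_sub]; exact h.neg : IsNilpotent (algebraMap k S c - x)).map _
  have h1 := LinearMap.eval_charpoly (Algebra.lmul k S (algebraMap k S c - x)) c
  rw [hn.charpoly_eq_X_pow_finrank, Polynomial.eval_pow, Polynomial.eval_X] at h1
  rw [h1, Algebra.norm_apply]
  refine congrArg LinearMap.det (LinearMap.ext fun y => ?_)
  simp [sub_mul, Algebra.smul_def]

end Groth.Agent.MiscAlg16
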