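import Mathlib.RingTheory.Ideal.Height
import Mathlib.RingTheory.Polynomial.Basic
import Mathlib.RingTheory.DiscreteValuationRing.TFAE
import Mathlib.RingTheory.Localization.Integral
import Mathlib.Algebra.Polynomial.FieldDivision
import Mathlib.RingTheory.Localization.FractionRing
import Mathlib.RingTheory.Localization.Submodule

/-!
Height one primes of `A[X]`.
-/

universe u

open Polynomial

namespace Groth.Agent.MiscAlg16

lemma height_one_comap_C (A : Type u) [CommRing A] [IsDomain A] [IsNoetherianRing A] (P : Ideal A[X])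
    [P.IsPrime] (hP : P.height = 1) :
    P.comap (C : A →+* A[X]) = ⊥ ∨
      ((P.comap (C : A →+* A[X])).height = 1 ∧ P = (P.comap (C : A →+* A[X])).map C) := by
  by_cases hp : P.comap (C : A →+* A[X]) = ⊥
  · exact Or.inl hp
  refine Or.inr ?_
  set p := P.comap (C : A →+* A[X]) with hpdef
  have hinj : Function.Injective (C : A →+* A[X]) := C_injective
  have hne : ∀ q : Ideal A, q ≠ ⊥ → q.map (C : A →+* A[X]) ≠ ⊥ := fun q hq h =>
    hq ((Ideal.map_eq_bot_iff_of_injective hinj).mp h)
  have hPfin : P.FiniteHeight := ⟨Or.inr (by rw [hP]; exact ENat.one_ne_top)⟩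
  have h0 : ∀ Q : Ideal A[X], Q.IsPrime → Q ≠ ⊥ → Q ≤ P → Q = P := by
    intro Q hQ hQ0 hQP
    haveI : Q.FiniteHeight := Ideal.finiteHeight_of_le hQP (Ideal.IsPrime.ne_top ‹P.IsPrime›)
    refine Ideal.eq_of_le_of_height_le Q hQP ?_
    rw [hP]
    exact Order.one_le_iff_ne_zero.mpr (fun h => hQ0 (Ideal.height_eq_zero_iff_eq_bot.mp h))
  have heq : P = p.map C :=
    (h0 _ inferInstance (hne p hp) (Ideal.map_le_iff_le_comap.mpr le_rfl)).symm
  refine ⟨le_antisymm ?_ (Order.one_le_iff_ne_zero.mpr fun h => hp (Ideal.height_eq_zero_iff_eq_bot.mp h)), heq⟩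
  refine (Ideal.height_le_iff (p := p) (n := 1)).mpr fun q hq hqp => ?_
  have hq0 : q = ⊥ := by
    by_contra hq0
    haveI := hq
    have := h0 _ inferInstance (hne q hq0) ((Ideal.map_mono hqp.le).trans heq.ge)
    have h2 : p.map (C : A →+* A[X]) = q.map C := heq.symm.trans this.symm
    refine hqp.ne (le_antisymm hqp.le fun a ha => ?_)
    have h3 : C a ∈ q.map (C : A →+* A[X]) := h2 ▸ Ideal.mem_map_of_mem _ ha
    simpa using (Ideal.mem_map_C_iff.mp h3 0)
  rw [hq0, Ideal.height_bot]
  exact zero_lt_one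

lemma isDiscreteValuationRing_of_generator {R : Type u} [CommRing R] [IsDomain R] [IsNoetherianRing R]
    (P : Ideal R) [P.IsPrime] (hP : P ≠ ⊥) (g : R) (hg : g ∈ P)
    (h : ∀ x ∈ P, ∃ s, s ∉ P ∧ g ∣ s * x) :
    IsDiscreteValuationRing (Localization.AtPrime P) := by
  have hnf : ¬ IsField (Localization.AtPrime P) := by
    intro hF
    rw [IsLocalRing.isField_iff_maximalIdeal_eq] at hF
    refine hP (bot_unique ?_)
    intro x hx
    have : algebraMap R (Localization.AtPrime P) x ∈ IsLocalRing.maximalIdeal _ :=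
      (IsLocalization.AtPrime.to_map_mem_maximal_iff _ P x).mpr hx
    rw [hF, Ideal.mem_bot] at this
    exact (IsLocalization.injective (Localization.AtPrime P) P.primeCompl_le_nonZeroDivisors)
      (by rw [this, map_zero])
  haveI : IsNoetherianRing (Localization.AtPrime P) := IsLocalization.isNoetherianRing P.primeCompl _ inferInstance
  refine ((IsDiscreteValuationRing.TFAE _ hnf).out 0 4 rfl rfl).mpr ⟨algebraMap R _ g, ?_⟩
  refine le_antisymm ?_ ?_
  · rw [← Localization.AtPrime.map_eq_maximalIdeal, Ideal.map_le_iff_le_comap]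
    intro x hx
    obtain ⟨s, hs, c, hc⟩ := h x hx
    refine Ideal.mem_span_singleton.mpr ⟨IsLocalization.mk' _ c (⟨s, hs⟩ : P.primeCompl), ?_⟩
    rw [IsLocalization.mul_mk'_eq_mk'_of_mul, IsLocalization.eq_mk'_iff_mul_eq, ← map_mul,
      mul_comm x, hc]
  · change Ideal.span {algebraMap R _ g} ≤ _
    rw [Ideal.span_le, Set.singleton_subset_iff]
    exact (IsLocalization.AtPrime.to_map_mem_maximal_iff _ P g).mpr hg

lemma isDVR_polynomial (A : Type u) [CommRing A] [IsDomain A] [IsNoetherianRing A]
    (hR1 : ∀ (p : Ideal A) [p.IsPrime], p.height = 1 → IsDiscreteValuationRing (Localization.AtPrime p))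
    (P : Ideal A[X]) [P.IsPrime] (hP : P.height = 1) :
    IsDiscreteValuationRing (Localization.AtPrime P) := by
  classical
  rcases height_one_comap_C A P hP with h0 | ⟨h1, hPeq⟩
  · -- `P` meets `A` trivially
    let K := FractionRing A
    let φ : A[X] →+* K[X] := mapRingHom (algebraMap A K)
    obtain ⟨g₀, hg₀⟩ : (P.map φ).IsPrincipal := inferInstance
    rw [Ideal.submodule_span_eq] at hg₀
    obtain ⟨b, hb, hbg⟩ := IsLocalization.integerNormalization_spec (R := A) (nonZeroDivisors A) g₀
    have hφ : Function.Injective φ := map_injective _ (IsFractionRing.injective A K)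
    have hclear : ∀ y ∈ P.map φ, ∃ (a : A) (z : A[X]), a ≠ 0 ∧ z ∈ P ∧ φ z = C (algebraMap A K a) * y := by
      intro y hy
      induction hy using Submodule.span_induction with
      | mem y hy =>
        obtain ⟨z, hz, rfl⟩ := hy
        exact ⟨1, z, one_ne_zero, hz, by simp [φ]⟩
      | zero => exact ⟨1, 0, one_ne_zero, P.zero_mem, by simp⟩
      | add y y' _ _ hy hy' =>
        obtain ⟨a, z, ha, hz, e⟩ := hy
        obtain ⟨a', z', ha', hz', e'⟩ := hy'
        refine ⟨a * a', C a' * z + C a * z', mul_ne_zero ha ha',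
          add_mem (P.mul_mem_left _ hz) (P.mul_mem_left _ hz'), ?_⟩
        rw [map_add, map_mul, map_mul, e, e']
        simp only [φ, coe_mapRingHom, map_C, map_mul]
        ring
      | smul c y _ hy =>
        obtain ⟨a, z, ha, hz, e⟩ := hy
        obtain ⟨b, hb, hbc⟩ := IsLocalization.integerNormalization_spec (R := A) (nonZeroDivisors A) c
        refine ⟨b * a, IsLocalization.integerNormalization (nonZeroDivisors A) c * z,
          mul_ne_zero (nonZeroDivisors.ne_zero hb) ha, P.mul_mem_left _ hz, ?_⟩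
        rw [map_mul, e]
        simp only [φ, coe_mapRingHom, hbc, smul_eq_mul, map_mul, Algebra.smul_def]
        rw [IsScalarTower.algebraMap_apply A K K[X], Polynomial.algebraMap_apply]
        simp only [Algebra.algebraMap_self, RingHom.id_apply]
        ring
    obtain ⟨a, g, ha, hg, hga⟩ := hclear g₀ (hg₀ ▸ Ideal.mem_span_singleton_self g₀)
    refine isDiscreteValuationRing_of_generator P (Ideal.ne_bot_of_height_eq_one hP) g hg fun x hx => ?_
    obtain ⟨q, hq⟩ : g₀ ∣ φ x := Ideal.mem_span_singleton.mp (hg₀ ▸ Ideal.mem_map_of_mem φ hx)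
    obtain ⟨c, hc, hcq⟩ := IsLocalization.integerNormalization_spec (R := A) (nonZeroDivisors A) q
    have hCP : ∀ r : A, r ≠ 0 → (C r : A[X]) ∉ P := fun r hr h => hr (by
      have : r ∈ P.comap (C : A →+* A[X]) := h
      rwa [h0, Ideal.mem_bot] at this)
    refine ⟨C (c * a), hCP _ (mul_ne_zero (nonZeroDivisors.ne_zero hc) ha),
      IsLocalization.integerNormalization (nonZeroDivisors A) q, hφ ?_⟩
    rw [map_mul, map_mul φ g, hga, hq]
    simp only [φ, coe_mapRingHom, map_C, map_mul, hcq, Algebra.smul_def]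
    rw [IsScalarTower.algebraMap_apply A K K[X], Polynomial.algebraMap_apply]
    simp only [Algebra.algebraMap_self, RingHom.id_apply]
    ring
  · -- `P` is extended from `A`
    set p := P.comap (C : A →+* A[X]) with hp
    haveI := hR1 p h1
    obtain ⟨π, hπ⟩ := IsDiscreteValuationRing.exists_irreducible (Localization.AtPrime p)
    obtain ⟨a, s, rfl⟩ := IsLocalization.exists_mk'_eq p.primeCompl π
    have hmax := hπ.maximalIdeal_eq
    have ha : a ∈ p := by
      have : IsLocalization.mk' (Localization.AtPrime p) a s ∈ IsLocalRing.maximalIdeal _ :=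
        hmax ▸ Ideal.mem_span_singleton_self _
      exact (IsLocalization.AtPrime.mk'_mem_maximal_iff (Localization.AtPrime p) p a s).mp this
    have hdiv : ∀ c ∈ p, ∃ t, t ∉ p ∧ a ∣ t * c := by
      intro c hc
      have : algebraMap A (Localization.AtPrime p) c ∈ IsLocalRing.maximalIdeal _ :=
        (IsLocalization.AtPrime.to_map_mem_maximal_iff _ p c).mpr hc
      rw [hmax, Ideal.mem_span_singleton] at this
      obtain ⟨q, hq⟩ := this
      obtain ⟨b, t, rfl⟩ := IsLocalization.exists_mk'_eq p.primeCompl q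
      rw [← IsLocalization.mk'_mul, IsLocalization.eq_mk'_iff_mul_eq, ← map_mul,
        IsLocalization.eq_iff_exists p.primeCompl] at hq
      obtain ⟨r, hr⟩ := hq
      refine ⟨r.1 * (s * t).1, (r * (s * t)).2, r.1 * b, ?_⟩
      linear_combination hr
    refine isDiscreteValuationRing_of_generator P (Ideal.ne_bot_of_height_eq_one hP) (C a)
      (show a ∈ p from ha) fun x hx => ?_
    rw [hPeq, Ideal.mem_map_C_iff] at hx
    choose t ht c hc using fun n => hdiv _ (hx n)
    refine ⟨C (∏ n ∈ x.support, t n), fun h => ?_, ?_⟩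
    · obtain ⟨n, -, hn⟩ := Ideal.IsPrime.prod_mem_iff.mp (show (∏ n ∈ x.support, t n) ∈ p from h)
      exact ht n hn
    · rw [C_dvd_iff_dvd_coeff]
      intro n
      rw [coeff_C_mul]
      by_cases hn : n ∈ x.support
      · rw [← Finset.prod_erase_mul _ _ hn, mul_assoc]
        exact dvd_mul_of_dvd_right ⟨c n, hc n⟩ _
      · rw [notMem_support_iff.mp hn, mul_zero]
        exact dvd_zero _

end Groth.Agent.MiscAlg16
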