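import Mathlib.LinearAlgebra.Eigenspace.Zero
import Mathlib.RingTheory.MvPolynomial.Homogeneous
import Mathlib.LinearAlgebra.Dimension.Constructions
import Mathlib.RingTheory.Norm.Basic
import Mathlib.RingTheory.Artinian.Ring
import Mathlib.FieldTheory.IsAlgClosed.Basic
import Mathlib.LinearAlgebra.FiniteDimensional.Lemmas
import Mathlib.Algebra.MonoidAlgebra.Module
import Mathlib.RingTheory.LocalRing.ResidueField.Basic

/-!
Small linear algebra facts.
-/

universe u

namespace Groth.Agent.MiscAlg16

lemma norm_residue (k A : Type u) [Field k] [IsAlgClosed k] [CommRing A] [Algebra k A] [IsLocalRing A]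
    [Module.Finite k A] (u : Aˣ) :
    algebraMap k (IsLocalRing.ResidueField A) (Algebra.norm k (u : A)) =
      IsLocalRing.residue A (u : A) ^ Module.finrank k A := by
  haveI : IsArtinianRing A := IsArtinianRing.of_finite k A
  haveI : Module.Finite k (IsLocalRing.ResidueField A) :=
    Module.Finite.of_surjective (Ideal.Quotient.mkₐ k (IsLocalRing.maximalIdeal A)).toLinearMap
      Ideal.Quotient.mk_surjective
  haveI : Algebra.IsIntegral k (IsLocalRing.ResidueField A) := Algebra.IsIntegral.of_finite k _
  obtain ⟨c, hc⟩ := (IsAlgClosed.algebraMap_bijective_of_isIntegral (k := k)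
    (K := IsLocalRing.ResidueField A)).2 (IsLocalRing.residue A (u : A))
  let ε : A := (u : A) - algebraMap k A c
  have hε : IsNilpotent ε := by
    have hmem : ε ∈ IsLocalRing.maximalIdeal A := by
      rw [← Ideal.Quotient.eq_zero_iff_mem]
      change IsLocalRing.residue A ε = 0
      rw [map_sub, ← hc, sub_eq_zero]
      rfl
    obtain ⟨N, hN⟩ := IsArtinianRing.isNilpotent_jacobson_bot (R := A)
    rw [IsLocalRing.jacobson_eq_maximalIdeal (⊥ : Ideal A) bot_ne_top] at hN
    exact ⟨N, by have := Ideal.pow_mem_pow hmem N; rwa [hN] at this⟩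
  have hnil : IsNilpotent (Algebra.lmul k A (-ε)) := (hε.neg).map _
  have hdet : Algebra.norm k (u : A) = c ^ Module.finrank k A := by
    rw [Algebra.norm_apply]
    have he : (Algebra.lmul k A (u : A) : Module.End k A) =
        algebraMap k (Module.End k A) c - Algebra.lmul k A (-ε) := by
      rw [map_neg, sub_neg_eq_add, ← AlgHom.commutes (Algebra.lmul k A) c, ← map_add]
      congr 1
      simp [ε]
    rw [he, ← LinearMap.eval_charpoly, IsNilpotent.charpoly_eq_X_pow_finrank hnil,
      Polynomial.eval_pow, Polynomial.eval_X]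
  rw [hdet, map_pow, hc]

open MvPolynomial in
lemma finrank_homogeneous_two (K : Type u) [Field K] (k : ℕ) :
    Module.Finite K (homogeneousSubmodule (Fin 2) K k) ∧
      Module.finrank K (homogeneousSubmodule (Fin 2) K k) = k + 1 := by
  let S : Set (Fin 2 →₀ ℕ) := {d | d.degree = k}
  have hdeg : ∀ d : Fin 2 →₀ ℕ, d.degree = d 0 + d 1 := fun d => by
    rw [Finsupp.degree_eq_sum, Fin.sum_univ_two]
  let e : Fin (k + 1) ≃ S :=
    { toFun i := ⟨Finsupp.equivFunOnFinite.symm ![i.1, k - i.1], by
        change Finsupp.degree _ = k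
        rw [hdeg]
        simp
        omega⟩
      invFun d := ⟨d.1 0, by
        have h : d.1.degree = k := d.2
        rw [hdeg] at h
        omega⟩
      left_inv i := Fin.ext (by simp)
      right_inv d := by
        have h : d.1.degree = k := d.2
        rw [hdeg] at h
        apply Subtype.ext
        ext j
        fin_cases j <;> simp
        omega }
  haveI : Fintype S := Fintype.ofEquiv _ e
  let φ : homogeneousSubmodule (Fin 2) K k ≃ₗ[K] (S →₀ K) :=
    (LinearEquiv.ofEq _ _ (homogeneousSubmodule_eq_finsupp_supported (σ := Fin 2) (R := K) k)).trans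
      (AddMonoidAlgebra.supportedEquivFinsupp S)
  refine ⟨Module.Finite.equiv φ.symm, ?_⟩
  rw [φ.finrank_eq, Module.finrank_finsupp_self, ← Fintype.card_congr e,
    Fintype.card_fin]

open MvPolynomial in
lemma exists_multiplier (K : Type u) [Field K] (n r k : ℕ)
    (hkn : k ≤ n) (hineq : (r + 1) * (n + 1) ≤ (r + 2) * k)
    (U : Submodule K (MvPolynomial (Fin 2) K))
    (hU : U ≤ homogeneousSubmodule (Fin 2) K n)
    (hcodim : Module.finrank K ↥U + (r + 1) = n + 1) :
    ∃ g ∈ homogeneousSubmodule (Fin 2) K k, g ≠ 0 ∧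
      ∀ h ∈ homogeneousSubmodule (Fin 2) K (n - k), g * h ∈ U := by
  obtain ⟨hfk, hdk⟩ := finrank_homogeneous_two K k
  obtain ⟨hfm, hdm⟩ := finrank_homogeneous_two K (n - k)
  obtain ⟨hfn, hdn⟩ := finrank_homogeneous_two K n
  let U' : Submodule K (homogeneousSubmodule (Fin 2) K n) := U.comap (Submodule.subtype _)
  have hU' : Module.finrank K U' = Module.finrank K U :=
    (Submodule.comapSubtypeEquivOfLe hU).finrank_eq
  have hq : Module.finrank K (homogeneousSubmodule (Fin 2) K n ⧸ U') = r + 1 := by
    have := Submodule.finrank_quotient_add_finrank U'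
    omega
  let μ : homogeneousSubmodule (Fin 2) K k →ₗ[K]
      (homogeneousSubmodule (Fin 2) K (n - k) →ₗ[K] (homogeneousSubmodule (Fin 2) K n ⧸ U')) :=
    LinearMap.mk₂ K (fun g h => Submodule.Quotient.mk ⟨(g : MvPolynomial (Fin 2) K) * h, by
        have := (g.2 : IsHomogeneous _ k).mul (h.2 : IsHomogeneous _ (n - k))
        rwa [Nat.add_sub_cancel' hkn] at this⟩)
      (fun g g' h => by rw [← Submodule.Quotient.mk_add]; congr 1; exact Subtype.ext (add_mul _ _ _))
      (fun c g h => by rw [← Submodule.Quotient.mk_smul]; congr 1; exact Subtype.ext (smul_mul_assoc _ _ _))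
      (fun g h h' => by rw [← Submodule.Quotient.mk_add]; congr 1; exact Subtype.ext (mul_add _ _ _))
      (fun c g h => by rw [← Submodule.Quotient.mk_smul]; congr 1; exact Subtype.ext (mul_smul_comm _ _ _))
  have hni : ¬ Function.Injective μ := by
    intro hinj
    have h := LinearMap.finrank_le_finrank_of_injective hinj
    rw [Module.finrank_linearMap, hdk, hdm, hq] at h
    have e : (r + 1) * (n + 1) = (n - k + 1) * (r + 1) + (r + 1) * k := by
      have : n + 1 = n - k + 1 + k := by omega
      rw [this]; ring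
    nlinarith
  rw [← LinearMap.ker_eq_bot] at hni
  obtain ⟨g, hg, hg0⟩ := Submodule.exists_mem_ne_zero_of_ne_bot hni
  refine ⟨g.1, g.2, fun h => hg0 (Subtype.ext h), fun h hh => ?_⟩
  have := LinearMap.congr_fun (LinearMap.mem_ker.mp hg) ⟨h, hh⟩
  exact (Submodule.Quotient.mk_eq_zero U').mp this

end Groth.Agent.MiscAlg16
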